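import Mathlib

/-!
# Linear forms on finite modules over reduced noetherian rings
-/

set_option autoImplicit false
universe u

namespace GrothLib.GorDimOne

variable {S : Type u} [CommRing S] [IsReduced S] [IsNoetherianRing S]

omit [IsNoetherianRing S] in
theorem mem_nonZeroDivisors_of_forall_notMem {s : S} (h : ∀ p ∈ minimalPrimes S, s ∉ p) :
    s ∈ nonZeroDivisors S := by
  rw [mem_nonZeroDivisors_iff_right]
  intro b hb
  have : b ∈ sInf (minimalPrimes S) := Submodule.mem_sInf.2 fun p hp =>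
    ((Ideal.minimalPrimes_isPrime hp).mem_or_mem (hb ▸ p.zero_mem : b * s ∈ p)).resolve_right (h p hp)
  have hrad : sInf (minimalPrimes S) = (⊥ : Ideal S) := by
    rw [show minimalPrimes S = (⊥ : Ideal S).minimalPrimes from rfl,
      Ideal.sInf_minimalPrimes]
    exact nilradical_eq_zero S
  rwa [hrad, Ideal.mem_bot] at this

theorem exists_mem_nonZeroDivisors (J : Ideal S) (h : ∀ p ∈ minimalPrimes S, ¬ J ≤ p) :
    ∃ s ∈ J, s ∈ nonZeroDivisors S := by
  have hfin := minimalPrimes.finite_of_isNoetherianRing S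
  have hns : ¬ (J : Set S) ⊆ ⋃ p ∈ (hfin.toFinset : Set (Ideal S)), (p : Set S) := by
    rw [Ideal.subset_union_prime ⊥ ⊥ (fun i hi _ _ => Ideal.minimalPrimes_isPrime (hfin.mem_toFinset.1 hi))]
    rintro ⟨p, hp, hle⟩
    exact h p (hfin.mem_toFinset.1 hp) hle
  obtain ⟨s, hsJ, hs⟩ := Set.not_subset.1 hns
  refine ⟨s, hsJ, mem_nonZeroDivisors_of_forall_notMem fun p hp hsp => hs ?_⟩
  exact Set.mem_biUnion (hfin.mem_toFinset.2 hp) hsp

theorem exists_form_notMem {M : Type u} [AddCommGroup M] [Module S M] [Module.Finite S M]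
    {p : Ideal S} (hp : p ∈ minimalPrimes S) (m : M) (hm : ∀ s : S, s • m = 0 → s ∈ p) :
    ∃ φ : M →ₗ[S] S, φ m ∉ p := by
  have := Ideal.minimalPrimes_isPrime hp
  let L := Localization.AtPrime p
  have : Module.FinitePresentation S M := Module.finitePresentation_of_finite S M
  have hfield : IsField L := by
    rw [IsLocalRing.isField_iff_maximalIdeal_eq, ← IsLocalization.AtPrime.map_eq_maximalIdeal p L,
      Ideal.map_eq_bot_iff_le_ker]
    intro x hx
    classical
    have hfin := minimalPrimes.finite_of_isNoetherianRing S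
    have hex : ∀ q ∈ hfin.toFinset.erase p, ∃ y ∈ q, y ∉ p := fun q hq => by
      by_contra! hle
      obtain ⟨hqp, hq'⟩ := Finset.mem_erase.1 hq
      have hqm := hfin.mem_toFinset.1 hq'
      exact hqp (le_antisymm hle (hp.2 ⟨Ideal.minimalPrimes_isPrime hqm, bot_le⟩ hle))
    choose y hyq hyp using hex
    let Y := ∏ q ∈ (hfin.toFinset.erase p).attach, y q.1 q.2
    have hY : Y ∉ p := fun h => by
      obtain ⟨q, -, hq⟩ := (Ideal.IsPrime.prod_mem_iff).1 h
      exact hyp _ _ hq
    have hmem : Y * x ∈ sInf ((⊥ : Ideal S).minimalPrimes) := Submodule.mem_sInf.2 fun q hq => by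
      rcases eq_or_ne q p with rfl | hne
      · exact Ideal.mul_mem_left _ _ hx
      · have hq' : q ∈ hfin.toFinset.erase p := Finset.mem_erase.2 ⟨hne, hfin.mem_toFinset.2 hq⟩
        exact Ideal.mul_mem_right _ _ (Ideal.prod_mem _ (i := ⟨q, hq'⟩) (Finset.mem_attach _ _) (hyq q hq'))
    rw [Ideal.sInf_minimalPrimes, show (⊥ : Ideal S).radical = ⊥ from nilradical_eq_zero S, Ideal.mem_bot] at hmem
    exact RingHom.mem_ker.2 ((IsLocalization.map_eq_zero_iff p.primeCompl L x).2 ⟨⟨Y, hY⟩, hmem⟩)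
  let _ : Field L := hfield.toField
  let ι := LocalizedModule.mkLinearMap p.primeCompl M
  have hm0 : ι m ≠ 0 := by
    intro h0
    obtain ⟨s, hs⟩ := (IsLocalizedModule.eq_zero_iff p.primeCompl ι).1 h0
    exact s.2 (hm s hs)
  obtain ⟨g, hg⟩ : ∃ g : LocalizedModule p.primeCompl M →ₗ[L] L, g (ι m) ≠ 0 := by
    by_contra! hall
    exact hm0 ((Module.forall_dual_apply_eq_zero_iff L (ι m)).1 hall)
  obtain ⟨φ, c, hφ⟩ := Module.FinitePresentation.exists_lift_of_isLocalizedModule p.primeCompl
    (Algebra.linearMap S L) (g.restrictScalars S ∘ₗ ι)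
  refine ⟨φ, fun hmem => hg ?_⟩
  have h1 := LinearMap.congr_fun hφ m
  simp only [LinearMap.comp_apply, Algebra.linearMap_apply, LinearMap.smul_apply,
    LinearMap.coe_restrictScalars] at h1
  have h0 : algebraMap S L (φ m) = 0 := by
    by_contra hne
    have hu : IsUnit (algebraMap S L (φ m)) := isUnit_iff_ne_zero.2 hne
    exact (IsLocalization.AtPrime.isUnit_to_map_iff L p _).1 hu hmem
  rw [h0, Submonoid.smul_def, Algebra.smul_def] at h1
  exact ((IsLocalization.map_units L c).mul_right_eq_zero).1 h1.symm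

theorem eval_injective_of_nzd {M : Type u} [AddCommGroup M] [Module S M] [Module.Finite S M]
    (h : ∀ s ∈ nonZeroDivisors S, ∀ m : M, s • m = 0 → m = 0) :
    Function.Injective (Module.Dual.eval S M) := by
  rw [← LinearMap.ker_eq_bot, LinearMap.ker_eq_bot']
  intro m hm
  by_contra hne
  let J : Ideal S := LinearMap.ker (LinearMap.toSpanSingleton S M m)
  by_cases hall : ∀ p ∈ minimalPrimes S, ¬ J ≤ p
  · obtain ⟨s, hsJ, hs⟩ := exists_mem_nonZeroDivisors J hall
    exact hne (h s hs m (by simpa [J] using hsJ))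
  · push Not at hall
    obtain ⟨p, hp, hle⟩ := hall
    obtain ⟨φ, hφ⟩ := exists_form_notMem hp m (fun s hs => hle (by simpa [J] using hs))
    refine hφ ?_
    have := LinearMap.congr_fun hm φ
    rw [Module.Dual.eval_apply, LinearMap.zero_apply] at this
    rw [this]
    exact p.zero_mem

end GrothLib.GorDimOne
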