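import Mathlib
import Groth.Agent.Lib.GorDimOne.Reduced

/-!
# Modules with scalar endomorphisms over reduced rings of dimension at most one
-/

set_option autoImplicit false
universe u

namespace GrothLib.GorDimOne

variable {S : Type u} [CommRing S] {M : Type u} [AddCommGroup M] [Module S M]

theorem bijective_end_of_locallyFree_rank_one [Module.Finite S M]
    (h : ∀ (P : Ideal S) (_ : P.IsPrime),
        Nonempty (LocalizedModule P.primeCompl M ≃ₗ[Localization.AtPrime P] Localization.AtPrime P)) :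
    Function.Bijective (algebraMap S (Module.End S M)) := by
  classical
  constructor
  · rw [injective_iff_map_eq_zero]
    intro a ha
    have hann : ∀ m : M, a • m = 0 := fun m => LinearMap.congr_fun ha m
    by_contra hne
    obtain ⟨P, hP, hle⟩ := Ideal.exists_le_maximal (LinearMap.ker (LinearMap.toSpanSingleton S S a))
      (fun ht => hne (by
        have : (1 : S) ∈ LinearMap.ker (LinearMap.toSpanSingleton S S a) := by rw [ht]; trivial
        simpa using this))
    obtain ⟨e⟩ := h P inferInstance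
    obtain ⟨⟨m, s⟩, hms⟩ := IsLocalizedModule.surj P.primeCompl (LocalizedModule.mkLinearMap P.primeCompl M) (e.symm 1)
    have h1 : a • (LocalizedModule.mkLinearMap P.primeCompl M) m = 0 := by rw [← map_smul, hann, map_zero]
    rw [← hms, Submonoid.smul_def, smul_smul] at h1
    have h2 := congrArg e h1
    rw [← algebraMap_smul (Localization.AtPrime P) (a * (s : S)) (e.symm 1), map_smul,
      LinearEquiv.apply_symm_apply, map_zero, smul_eq_mul, mul_one, map_mul] at h2
    rw [(IsLocalization.map_units _ s).mul_left_eq_zero] at h2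
    obtain ⟨t, ht⟩ := (IsLocalization.map_eq_zero_iff P.primeCompl (Localization.AtPrime P) a).1 h2
    exact t.2 (hle (by simpa using ht))
  · intro E
    let J : Ideal S :=
      { carrier := {s | ∃ a : S, ∀ m : M, s • E m = a • m}
        add_mem' := fun {s t} ⟨a, ha⟩ ⟨b, hb⟩ => ⟨a + b, fun m => by rw [add_smul, add_smul, ha, hb]⟩
        zero_mem' := ⟨0, fun m => by simp⟩
        smul_mem' := fun c s ⟨a, ha⟩ => ⟨c * a, fun m => by rw [smul_eq_mul, mul_smul, mul_smul, ha]⟩ }
    suffices htop : J = ⊤ by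
      obtain ⟨a, ha⟩ : (1 : S) ∈ J := by rw [htop]; trivial
      exact ⟨a, LinearMap.ext fun m => by simpa using (ha m).symm⟩
    by_contra hne
    obtain ⟨P, hP, hle⟩ := Ideal.exists_le_maximal J hne
    obtain ⟨e⟩ := h P inferInstance
    let L := Localization.AtPrime P
    let ι := LocalizedModule.mkLinearMap P.primeCompl M
    let EP : LocalizedModule P.primeCompl M →ₗ[L] LocalizedModule P.primeCompl M :=
      (IsLocalizedModule.map P.primeCompl ι ι E).extendScalarsOfIsLocalization P.primeCompl L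
    set c : L := e (EP (e.symm 1))
    have hEP : ∀ x, EP x = c • x := by
      intro x
      apply e.injective
      rw [map_smul]
      conv_lhs => rw [← e.symm_apply_apply x, show e.symm (e x) = e x • e.symm 1 by
        rw [← map_smul, smul_eq_mul, mul_one]]
      rw [map_smul, map_smul, smul_eq_mul, smul_eq_mul, mul_comm]
    obtain ⟨a, s, hc⟩ := IsLocalization.exists_mk'_eq P.primeCompl c
    have hkill : ∀ m : M, ∃ t ∈ P.primeCompl, t • ((s : S) • E m - a • m) = 0 := by
      intro m
      have h1 : ι ((s : S) • E m - a • m) = 0 := by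
        rw [map_sub, map_smul, map_smul, ← IsLocalizedModule.map_apply P.primeCompl ι ι E m]
        show (s : S) • EP (ι m) - a • ι m = 0
        rw [hEP, ← algebraMap_smul L (s : S) (c • ι m), ← algebraMap_smul L a (ι m), smul_smul, ← hc,
          IsLocalization.mk'_spec', sub_self]
      obtain ⟨t, ht⟩ := (IsLocalizedModule.eq_zero_iff P.primeCompl ι).1 h1
      exact ⟨t, t.2, ht⟩
    choose t htT ht using hkill
    obtain ⟨g, hg⟩ := (inferInstance : Module.Finite S M).fg_top
    let τ := ∏ x ∈ g, t x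
    refine (P.primeCompl.mul_mem (P.primeCompl.prod_mem fun x _ => htT x) s.2 : τ * s ∈ P.primeCompl)
      (hle ⟨τ * a, fun m => ?_⟩)
    have : (τ * (s : S)) • E = (τ * a) • LinearMap.id := by
      refine LinearMap.ext_on hg fun y hy => ?_
      obtain ⟨d, hd⟩ := Finset.dvd_prod_of_mem t (Finset.mem_coe.1 hy)
      show (τ * (s : S)) • E y = (τ * a) • y
      rw [mul_smul, mul_smul, ← sub_eq_zero, ← smul_sub, show τ = t y * d from hd, mul_comm, mul_smul,
        ht, smul_zero]
    exact LinearMap.congr_fun this m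

theorem trace_eq_top_of_bijective [IsReduced S] [IsNoetherianRing S] (hdim : ringKrullDim S ≤ 1)
    [Module.Finite S M] [Module.IsReflexive S M]
    (hbij : Function.Bijective (algebraMap S (Module.End S M))) :
    Ideal.span {r : S | ∃ (φ : M →ₗ[S] S) (v : M), φ v = r} = ⊤ := by
  classical
  by_contra hne
  set τ := Ideal.span {r : S | ∃ (φ : M →ₗ[S] S) (v : M), φ v = r} with hτ
  have hmem : ∀ (φ : M →ₗ[S] S) v, φ v ∈ τ := fun φ v => Ideal.subset_span ⟨φ, v, rfl⟩
  have hτmin : ∀ p ∈ minimalPrimes S, ¬ τ ≤ p := by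
    intro p hp hle
    obtain ⟨v, hv⟩ : ∃ v : M, ∀ s : S, s • v = 0 → s ∈ p := by
      by_contra! hall
      choose s hs hsp using hall
      obtain ⟨g, hg⟩ := (inferInstance : Module.Finite S M).fg_top
      have := Ideal.minimalPrimes_isPrime hp
      have h0 : algebraMap S (Module.End S M) (∏ x ∈ g, s x) = 0 := by
        refine LinearMap.ext_on hg fun y hy => ?_
        obtain ⟨d, hd⟩ := Finset.dvd_prod_of_mem s (Finset.mem_coe.1 hy)
        show (∏ x ∈ g, s x) • y = 0
        rw [hd, mul_comm, mul_smul, hs, smul_zero]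
      have h1 : (∏ x ∈ g, s x) = 0 := hbij.1 (h0.trans (map_zero _).symm)
      obtain ⟨x, -, hx⟩ := (Ideal.IsPrime.prod_mem_iff).1 (h1 ▸ p.zero_mem : (∏ x ∈ g, s x) ∈ p)
      exact hsp x hx
    obtain ⟨φ, hφ⟩ := exists_form_notMem hp v hv
    exact hφ (hle (hmem φ v))
  obtain ⟨t, htτ, htn⟩ := exists_mem_nonZeroDivisors τ hτmin
  obtain ⟨m, hm, hle⟩ := Ideal.exists_le_maximal τ hne
  have hm_min : ∀ p ∈ minimalPrimes S, ¬ m ≤ p := fun p hp h => hτmin p hp (hle.trans h)
  obtain ⟨x, hxm, hxn⟩ := exists_mem_nonZeroDivisors m hm_min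
  -- `m` is minimal over `(x)`
  have hminx : m ∈ (Module.annihilator S (S ⧸ Ideal.span {x})).minimalPrimes := by
    rw [Ideal.annihilator_quotient]
    refine ⟨⟨hm.isPrime, (Ideal.span_singleton_le_iff_mem _).2 hxm⟩, fun q hq hqm => ?_⟩
    have := hq.1
    obtain ⟨q₀, hq₀, hq₀q⟩ := Ideal.exists_minimalPrimes_le (bot_le : (⊥ : Ideal S) ≤ q)
    have hne₀ : q₀ ≠ q := fun e => by
      have hx₀ : x ∈ q₀ := e ▸ hq.2 (Ideal.mem_span_singleton_self x)
      exact notMem_nonZeroDivisors_of_mem_mem_minimalPrimes hx₀ hq₀ hxn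
    by_contra hqne
    have hlt : q < m := lt_of_le_not_ge hqm hqne
    have := Ideal.minimalPrimes_isPrime hq₀
    let a : PrimeSpectrum S := ⟨q₀, inferInstance⟩
    let b : PrimeSpectrum S := ⟨q, inferInstance⟩
    let c : PrimeSpectrum S := ⟨m, hm.isPrime⟩
    have hab : a < b := lt_of_le_of_ne hq₀q fun e => hne₀ (congrArg PrimeSpectrum.asIdeal e)
    have hbc : b < c := hlt
    have h2 := Order.LTSeries.length_le_krullDim
      (((RelSeries.singleton _ a).snoc b hab).snoc c (by simpa using hbc))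
    have h3 : ((2 : ℕ) : WithBot ℕ∞) ≤ 1 := h2.trans hdim
    norm_cast at h3
  have hass : m ∈ associatedPrimes S (S ⧸ Ideal.span {x}) :=
    Module.associatedPrimes.minimalPrimes_annihilator_subset_associatedPrimes S _ hminx
  obtain ⟨-, f, hf⟩ := (isAssociatedPrime_iff_exists_injective_linearMap m _).1 hass
  obtain ⟨y, hy⟩ := Ideal.Quotient.mk_surjective (f 1)
  have hy' : ∀ z ∈ m, ∃ w, z * y = w * x := by
    intro z hz
    have h0 : z • (1 : S ⧸ m) = 0 := by
      rw [Algebra.smul_def, mul_one]; exact Ideal.Quotient.eq_zero_iff_mem.2 hz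
    have := congrArg f h0
    rw [map_smul, map_zero, ← hy, Algebra.smul_def, Ideal.Quotient.algebraMap_eq, ← map_mul,
      Ideal.Quotient.eq_zero_iff_mem] at this
    obtain ⟨w, hw⟩ := Ideal.mem_span_singleton'.1 this
    exact ⟨w, hw.symm⟩
  choose g hg using hy'
  have hcancel : ∀ a b : S, a * x = b * x → a = b := fun a b h =>
    sub_eq_zero.1 ((mem_nonZeroDivisors_iff_right.1 hxn) _ (by rw [sub_mul, h, sub_self]))
  have hyx : y ∉ Ideal.span {x} := fun h => by
    have h1 : f 1 = f 0 := by rw [← hy, map_zero]; exact Ideal.Quotient.eq_zero_iff_mem.2 h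
    have h2 := hf h1
    exact hm.ne_top ((Ideal.eq_top_iff_one _).2 (Ideal.Quotient.eq_zero_iff_mem.1 (by rw [map_one]; exact h2)))
  have hgl : ∀ (φ : M →ₗ[S] S), ∃ ψ : M →ₗ[S] S, ∀ v, ψ v = g (φ v) (hle (hmem φ v)) := fun φ =>
    ⟨{ toFun := fun v => g (φ v) (hle (hmem φ v))
       map_add' := fun v v' => hcancel _ _ (by rw [← hg, map_add, add_mul, add_mul, hg _ (hle (hmem φ v)), hg _ (hle (hmem φ v'))])
       map_smul' := fun r v => hcancel _ _ (by
         simp only [RingHom.id_apply, smul_eq_mul, map_smul]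
         rw [← hg, mul_assoc, hg _ (hle (hmem φ v))]
         ring) }, fun v => rfl⟩
  choose Ψ hΨ using hgl
  by_cases hunit : ∃ z, ∃ hz : z ∈ m, g z hz ∉ m
  · -- Nakayama
    obtain ⟨z₀, hz₀, hu⟩ := hunit
    set u := g z₀ hz₀
    have hsm : (⊤ : Submodule S (M →ₗ[S] S)) ≤ m • ⊤ := by
      intro φ _
      obtain ⟨v, w, hwm, hvw⟩ : ∃ v, ∃ w ∈ m, v * u + w = 1 := hm.exists_inv hu
      have h1 : u • φ = z₀ • Ψ φ := LinearMap.ext fun n => hcancel _ _ (by
        simp only [LinearMap.smul_apply, smul_eq_mul, hΨ]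
        have h2 := hg z₀ hz₀
        have h3 := hg (φ n) (hle (hmem φ n))
        linear_combination φ n * (h2.symm : u * x = z₀ * y) + z₀ * h3)
      rw [← one_smul S φ, ← hvw, add_smul, mul_smul, h1, smul_smul]
      exact add_mem (Submodule.smul_mem_smul (Ideal.mul_mem_left _ _ hz₀) trivial)
        (Submodule.smul_mem_smul hwm trivial)
    have : Module.Finite S (M →ₗ[S] S) := inferInstance
    obtain ⟨r, hr, hr0⟩ := Submodule.exists_sub_one_mem_and_smul_eq_zero_of_fg_of_le_smul m ⊤
      (Module.Finite.fg_top) hsm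
    have hrτ : ∀ s ∈ τ, r * s = 0 := by
      intro s hs
      induction hs using Submodule.span_induction with
      | mem s hs =>
        obtain ⟨φ, v, rfl⟩ := hs
        exact LinearMap.congr_fun (hr0 φ trivial) v
      | zero => simp
      | add a b _ _ ha hb => rw [mul_add, ha, hb, add_zero]
      | smul c a _ ha => rw [smul_eq_mul, mul_left_comm, ha, mul_zero]
    have : r = 0 := (mem_nonZeroDivisors_iff_right.1 htn) r (hrτ t htτ)
    rw [this, zero_sub] at hr
    exact hm.ne_top ((Ideal.eq_top_iff_one _).2 (neg_mem_iff.1 hr))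
  push Not at hunit
  obtain ⟨a, ha⟩ : ∃ a : S, ∀ (φ : M →ₗ[S] S) v, g (φ v) (hle (hmem φ v)) = a * φ v := by
    let Θ : M →ₗ[S] Module.Dual S (Module.Dual S M) :=
      { toFun := fun v =>
          { toFun := fun φ => g (φ v) (hle (hmem φ v))
            map_add' := fun φ φ' => hcancel _ _ (by
              rw [← hg, LinearMap.add_apply, add_mul, add_mul, hg _ (hle (hmem φ v)), hg _ (hle (hmem φ' v))])
            map_smul' := fun r φ => hcancel _ _ (by
              simp only [RingHom.id_apply, LinearMap.smul_apply, smul_eq_mul]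
              rw [← hg, mul_assoc, hg _ (hle (hmem φ v))]
              ring) }
        map_add' := fun v v' => LinearMap.ext fun φ => by
          show g (φ (v + v')) _ = g (φ v) _ + g (φ v') _
          rw [← hΨ φ, ← hΨ φ, ← hΨ φ, map_add]
        map_smul' := fun r v => LinearMap.ext fun φ => by
          show g (φ (r • v)) _ = r • g (φ v) _
          rw [← hΨ φ, ← hΨ φ, map_smul] }
    obtain ⟨a, ha⟩ := hbij.2 ((Module.evalEquiv S M).symm.toLinearMap ∘ₗ Θ)
    refine ⟨a, fun φ v => ?_⟩
    have h1 := LinearMap.congr_fun ha v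
    rw [Module.algebraMap_end_apply, LinearMap.comp_apply, LinearEquiv.coe_coe, eq_comm,
      LinearEquiv.symm_apply_eq] at h1
    have h2 := LinearMap.congr_fun h1 φ
    rw [Module.evalEquiv_apply, Module.Dual.eval_apply, map_smul, smul_eq_mul] at h2
    exact h2
  have ha' : ∀ s ∈ τ, s * y = a * s * x := by
    intro s hs
    induction hs using Submodule.span_induction with
    | mem s hs =>
      obtain ⟨φ, v, rfl⟩ := hs
      rw [hg _ (hle (hmem φ v)), ha]
    | zero => simp
    | add b c _ _ hb hc => rw [add_mul, hb, hc]; ring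
    | smul c b _ hb => rw [smul_eq_mul, mul_assoc, hb]; ring
  refine hyx (Ideal.mem_span_singleton'.2 ⟨a, ?_⟩)
  have h1 := ha' t htτ
  exact sub_eq_zero.1 ((mem_nonZeroDivisors_iff_right.1 htn) _ (by linear_combination -h1))

theorem locallyFree_rank_one_of_trace [Module.Finite S M]
    (hbij : Function.Bijective (algebraMap S (Module.End S M)))
    (htr : Ideal.span {r : S | ∃ (φ : M →ₗ[S] S) (v : M), φ v = r} = ⊤) (P : Ideal S) [P.IsPrime] :
    Nonempty (LocalizedModule P.primeCompl M ≃ₗ[Localization.AtPrime P] Localization.AtPrime P) := by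
  obtain ⟨φ, v, hu⟩ : ∃ (φ : M →ₗ[S] S) (v : M), φ v ∉ P := by
    by_contra! hall
    refine ‹P.IsPrime›.ne_top (top_le_iff.1 (htr ▸ Ideal.span_le.2 ?_))
    rintro _ ⟨φ, v, rfl⟩
    exact hall φ v
  set u := φ v
  obtain ⟨a, ha⟩ := hbij.2 (φ.smulRight v)
  have ha' : ∀ w, a • w = φ w • v := fun w => LinearMap.congr_fun ha w
  have hua : u * u = u * a := by
    have h1 := congrArg φ (ha' v)
    rw [map_smul, map_smul, smul_eq_mul, smul_eq_mul] at h1
    linear_combination -h1
  have hw : ∀ w, (u * u) • w = (u * φ w) • v := fun w => by rw [hua, mul_smul, ha', smul_smul]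
  let L := Localization.AtPrime P
  let ι := LocalizedModule.mkLinearMap P.primeCompl M
  let Φ : LocalizedModule P.primeCompl M →ₗ[L] L :=
    (IsLocalizedModule.map P.primeCompl ι (Algebra.linearMap S L) φ).extendScalarsOfIsLocalization P.primeCompl L
  refine ⟨LinearEquiv.ofBijective Φ ⟨?_, ?_⟩⟩
  · rw [← LinearMap.ker_eq_bot, LinearMap.ker_eq_bot']
    intro z hz
    obtain ⟨⟨w, s⟩, rfl⟩ := IsLocalizedModule.mk'_surjective P.primeCompl ι z
    change IsLocalizedModule.map P.primeCompl ι (Algebra.linearMap S L) φ _ = 0 at hz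
    rw [Function.uncurry_apply_pair, IsLocalizedModule.map_mk', IsLocalizedModule.mk'_eq_zero,
      IsLocalizedModule.eq_zero_iff P.primeCompl (Algebra.linearMap S L)] at hz
    obtain ⟨c, hc⟩ := hz
    rw [Function.uncurry_apply_pair, IsLocalizedModule.mk'_eq_zero, IsLocalizedModule.eq_zero_iff P.primeCompl ι]
    refine ⟨c * ⟨u * u, P.primeCompl.mul_mem hu hu⟩, ?_⟩
    rw [Submonoid.smul_def, Submonoid.coe_mul, mul_smul, hw, smul_smul, mul_left_comm,
      show (c : S) * φ w = 0 from hc, mul_zero, zero_smul]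
  · intro r
    refine ⟨(r * (IsLocalization.map_units L (⟨u, hu⟩ : P.primeCompl)).unit⁻¹) • ι v, ?_⟩
    rw [map_smul, show Φ (ι v) = algebraMap S L u from IsLocalizedModule.map_apply P.primeCompl ι _ φ v,
      smul_eq_mul, mul_assoc, IsUnit.val_inv_mul, mul_one]

end GrothLib.GorDimOne
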