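import Mathlib
import Groth.Prelude.Def_CAlg
import Groth.Agent.Lib.Gor.Basic

/-!
# Torsionless modules over a Gorenstein ring of dimension at most one are reflexive
-/

set_option autoImplicit false
universe u

open CategoryTheory IsLocalRing

namespace GrothLib.GorDimOne

theorem hasInjDimLT_two (A : Type u) [CommRing A] [LocCoh.IsGorensteinLocalRing A]
    (h : ringKrullDim A ≤ 1) : HasInjectiveDimensionLT (ModuleCat.of A A) 2 := by
  obtain ⟨d, hd, -, hv, -⟩ := GrothLib.Gor.exists_dim A
  refine GrothLib.Gor.hasInjectiveDimensionLT_of_residue (ModuleCat.of A A) (N := 1) fun i hi => hv i ?_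
  rw [hd] at h
  have : d ≤ 1 := by exact_mod_cast h
  omega

theorem extend_of_injDim {A : Type u} [CommRing A] (hA : HasInjectiveDimensionLT (ModuleCat.of A A) 2)
    {n m : ℕ} (f : (Fin n → A) →ₗ[A] (Fin m → A)) (ψ : LinearMap.ker f →ₗ[A] A) :
    ∃ φ : (Fin n → A) →ₗ[A] A, ∀ x : LinearMap.ker f, φ x = ψ x := by
  let I := Injective.under (ModuleCat.of A A)
  let i : A →ₗ[A] I := (Injective.ι (ModuleCat.of A A)).hom
  have hi : Function.Injective i := (ModuleCat.mono_iff_injective _).1 inferInstance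
  let Q := LinearMap.range i
  have hIinj : Module.Injective A I :=
    Module.injective_module_of_injective_object A I (inj := (inferInstance : Injective I))
  let S : ShortComplex (ModuleCat.{u} A) :=
    ShortComplex.mk (X₁ := ModuleCat.of A A) (X₂ := I) (X₃ := ModuleCat.of A (I ⧸ Q))
      (ModuleCat.ofHom i) (ModuleCat.ofHom Q.mkQ)
      (ModuleCat.hom_ext (LinearMap.ext fun z =>
        (Submodule.Quotient.mk_eq_zero Q).2 (LinearMap.mem_range_self i z)))
  have hS : S.ShortExact :=
    { exact := (ShortComplex.moduleCat_exact_iff _).2 fun z hz => (Submodule.Quotient.mk_eq_zero Q).1 hz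
      mono_f := (ModuleCat.mono_iff_injective _).2 hi
      epi_g := (ModuleCat.epi_iff_surjective _).2 Q.mkQ_surjective }
  have hJ : Injective S.X₃ :=
    injective_iff_hasInjectiveDimensionLT_one.2 ((hS.hasInjectiveDimensionLT_X₃_iff 0 inferInstance).2 hA)
  have hJinj : Module.Injective A (I ⧸ Q) :=
    Module.injective_module_of_injective_object A (I ⧸ Q) (inj := hJ)
  let M := LinearMap.range f
  obtain ⟨Φ, hΦ⟩ := Module.Injective.out (self := hIinj) (LinearMap.ker f).subtype
    (Submodule.subtype_injective _) (i ∘ₗ ψ)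
  let χ : M →ₗ[A] I ⧸ Q := (LinearMap.ker f).liftQ (Q.mkQ ∘ₗ Φ) (fun x hx => by
      rw [LinearMap.mem_ker, LinearMap.comp_apply, Submodule.mkQ_apply, Submodule.Quotient.mk_eq_zero]
      exact ⟨ψ ⟨x, hx⟩, (hΦ ⟨x, hx⟩).symm⟩) ∘ₗ f.quotKerEquivRange.symm.toLinearMap
  obtain ⟨χ', hχ'⟩ := Module.Injective.out (self := hJinj) M.subtype (Submodule.subtype_injective _) χ
  obtain ⟨χ'', hχ''⟩ := Module.projective_lifting_property Q.mkQ χ' Q.mkQ_surjective
  let Ψ := Φ - χ'' ∘ₗ f
  have hΨ : ∀ x, Ψ x ∈ Q := by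
    intro x
    rw [← Submodule.Quotient.mk_eq_zero Q, ← Submodule.mkQ_apply]
    show Q.mkQ (Φ x - χ'' (f x)) = 0
    rw [map_sub, sub_eq_zero, ← LinearMap.comp_apply Q.mkQ χ'', hχ'']
    have := hχ' ⟨f x, LinearMap.mem_range_self f x⟩
    rw [Submodule.subtype_apply] at this
    rw [this]
    simp only [χ, LinearMap.comp_apply, LinearEquiv.coe_coe, Submodule.mkQ_apply]
    rw [show f.quotKerEquivRange.symm ⟨f x, LinearMap.mem_range_self f x⟩ = Submodule.Quotient.mk x from
      f.quotKerEquivRange.symm_apply_eq.2 rfl, Submodule.liftQ_apply]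
    rfl
  refine ⟨(LinearEquiv.ofInjective i hi).symm.toLinearMap ∘ₗ Ψ.codRestrict Q hΨ, fun x => ?_⟩
  apply hi
  show i ((LinearEquiv.ofInjective i hi).symm ⟨Ψ x, hΨ x⟩) = _
  rw [← LinearEquiv.ofInjective_apply (h := hi), LinearEquiv.apply_symm_apply]
  show Φ x - χ'' (f x) = i (ψ x)
  rw [show f x = 0 from x.2, map_zero, sub_zero]
  exact hΦ x

variable {S : Type u} [CommRing S]

theorem extend_of_localized [IsNoetherianRing S] {n m : ℕ} (f : (Fin n → S) →ₗ[S] (Fin m → S))
    (h : ∀ (P : Ideal S) [P.IsMaximal], HasInjectiveDimensionLT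
      (ModuleCat.of (Localization.AtPrime P) (Localization.AtPrime P)) 2)
    (ψ : LinearMap.ker f →ₗ[S] S) :
    ∃ φ : (Fin n → S) →ₗ[S] S, ∀ x : LinearMap.ker f, φ x = ψ x := by
  classical
  let J : Ideal S :=
    { carrier := {s | ∃ φ : (Fin n → S) →ₗ[S] S, ∀ x : LinearMap.ker f, φ x = s • ψ x}
      add_mem' := fun {a b} ⟨φ, hφ⟩ ⟨φ', hφ'⟩ => ⟨φ + φ', fun x => by simp [hφ, hφ', add_smul, add_mul]⟩
      zero_mem' := ⟨0, fun x => by simp⟩
      smul_mem' := fun c a ⟨φ, hφ⟩ => ⟨c • φ, fun x => by simp [hφ, mul_assoc]⟩ }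
  suffices htop : J = ⊤ by
    obtain ⟨φ, hφ⟩ : (1 : S) ∈ J := by rw [htop]; trivial
    exact ⟨φ, fun x => by rw [hφ, one_smul]⟩
  by_contra hne
  obtain ⟨P, hP, hle⟩ := Ideal.exists_le_maximal J hne
  let T := P.primeCompl
  let L := Localization.AtPrime P
  let ιn : (Fin n → S) →ₗ[S] (Fin n → L) := LinearMap.pi fun j => Algebra.linearMap S L ∘ₗ LinearMap.proj j
  let ιm : (Fin m → S) →ₗ[S] (Fin m → L) := LinearMap.pi fun j => Algebra.linearMap S L ∘ₗ LinearMap.proj j
  have hln : IsLocalizedModule T ιn := inferInstance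
  have hlm : IsLocalizedModule T ιm := inferInstance
  let f' := IsLocalizedModule.map T ιn ιm f
  let f'' : (Fin n → L) →ₗ[L] (Fin m → L) := f'.extendScalarsOfIsLocalization T L
  have := LinearMap.toKerLocalized_isLocalizedModule L T ιn ιm f
  let κ := LinearMap.toKerIsLocalized T ιn ιm f
  let ψ' : LinearMap.ker f' →ₗ[S] L := IsLocalizedModule.map T κ (Algebra.linearMap S L) ψ
  let ψ'' : LinearMap.ker f'' →ₗ[L] L :=
    LinearMap.extendScalarsOfIsLocalization T L
      ({ toFun := fun x => ψ' ⟨x.1, x.2⟩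
         map_add' := fun x y => ψ'.map_add ⟨x.1, x.2⟩ ⟨y.1, y.2⟩
         map_smul' := fun c x => by
           show ψ' ⟨((c • x : LinearMap.ker f'') : Fin n → L), _⟩ = c • ψ' ⟨x.1, x.2⟩
           rw [← map_smul]
           rfl } : LinearMap.ker f'' →ₗ[S] L)
  obtain ⟨Φ, hΦ⟩ := extend_of_injDim (h P) f'' ψ''
  obtain ⟨s, hs⟩ := IsLocalization.exist_integer_multiples_of_finite T (fun j : Fin n => Φ (Pi.single j 1))
  choose a ha using hs
  let φ : (Fin n → S) →ₗ[S] S := ∑ j, a j • LinearMap.proj j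
  have hφ : ∀ x : Fin n → S, algebraMap S L (φ x) = (s : S) • Φ (ιn x) := by
    intro x
    have hx : ιn x = ∑ j, algebraMap S L (x j) • (Pi.single j (1 : L) : Fin n → L) := by
      funext j
      simp [ιn, Finset.sum_apply, Pi.single_apply, Algebra.smul_def]
    rw [hx, map_sum, Finset.smul_sum]
    simp only [φ, LinearMap.sum_apply, LinearMap.smul_apply, LinearMap.proj_apply, map_sum, smul_eq_mul, map_mul]
    refine Finset.sum_congr rfl fun j _ => ?_
    rw [map_smul, smul_eq_mul, ha j]
    simp [Algebra.smul_def]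
    ring
  have hkill : ∀ x : LinearMap.ker f, ∃ t ∈ T, t * (φ x - s * ψ x) = 0 := by
    intro x
    have h1 : algebraMap S L (φ x) = algebraMap S L ((s : S) * ψ x) := by
      rw [hφ]
      have := hΦ ⟨ιn x, (κ x).2⟩
      rw [show (((⟨ιn x, (κ x).2⟩ : LinearMap.ker f'') : Fin n → L)) = ιn x from rfl] at this
      rw [this, map_mul, ← Algebra.smul_def]
      congr 1
      exact IsLocalizedModule.map_apply T κ (Algebra.linearMap S L) ψ x
    obtain ⟨t, ht⟩ := (IsLocalization.eq_iff_exists T L).1 h1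
    exact ⟨t, t.2, by rw [mul_sub, ht, sub_self]⟩
  choose t htT ht using hkill
  obtain ⟨g, hg⟩ : (⊤ : Submodule S (LinearMap.ker f)).FG := IsNoetherian.noetherian _
  let τ := ∏ x ∈ g, t x
  have hτT : τ ∈ T := T.prod_mem fun x _ => htT x
  have hmem : τ * s ∈ J := by
    refine ⟨τ • φ, fun x => ?_⟩
    have : τ • φ ∘ₗ (LinearMap.ker f).subtype = (τ * s) • ψ := by
      refine LinearMap.ext_on hg fun y hy => ?_
      obtain ⟨c, hc⟩ := Finset.dvd_prod_of_mem t (Finset.mem_coe.1 hy)
      show τ * φ y = τ * s * ψ y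
      rw [mul_assoc, ← sub_eq_zero, ← mul_sub, show τ = t y * c from hc, mul_right_comm, ht, zero_mul]
    exact LinearMap.congr_fun this x
  exact (T.mul_mem hτT s.2) (hle hmem)

/-- a finite torsionless module over a Gorenstein ring of dimension at most one is reflexive -/
theorem isReflexive_of_injective_eval [LocCoh.IsGorensteinRing S] (hdim : ringKrullDim S ≤ 1)
    (M : Type u) [AddCommGroup M] [Module S M] [Module.Finite S M]
    (hM : Function.Injective (Module.Dual.eval S M)) : Module.IsReflexive S M := by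
  have hloc : ∀ (P : Ideal S) [P.IsMaximal], HasInjectiveDimensionLT
      (ModuleCat.of (Localization.AtPrime P) (Localization.AtPrime P)) 2 := by
    intro P _
    have := LocCoh.IsGorensteinRing.isGorensteinLocalRing_localization (A := S) P
    refine hasInjDimLT_two _ (le_trans ?_ hdim)
    rw [IsLocalization.AtPrime.ringKrullDim_eq_height P (Localization.AtPrime P)]
    exact Ideal.height_le_ringKrullDim_of_ne_top (Ideal.IsPrime.ne_top inferInstance)
  refine ⟨⟨hM, fun θ => ?_⟩⟩
  obtain ⟨n, q, hq⟩ := Module.Finite.exists_fin' S M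
  obtain ⟨l, k, hk⟩ := Submodule.fg_iff_exists_fin_generating_family.1 (IsNoetherian.noetherian (LinearMap.ker q))
  let f : (Fin n → S) →ₗ[S] (Fin l → S) := LinearMap.pi fun j => ∑ i, k j i • LinearMap.proj i
  let dual : (Fin n → S) →ₗ[S] Module.Dual S (Fin n → S) :=
    { toFun := fun c => ∑ i, c i • LinearMap.proj i
      map_add' := fun c c' => by simp [add_smul, Finset.sum_add_distrib]
      map_smul' := fun r c => by simp [Finset.smul_sum, smul_smul] }
  have hker : ∀ c, c ∈ LinearMap.ker f → LinearMap.ker q ≤ LinearMap.ker (dual c) := by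
    intro c hc
    rw [← hk, Submodule.span_le]
    rintro _ ⟨j, rfl⟩
    have := congrFun (LinearMap.mem_ker.1 hc) j
    simpa [f, dual, mul_comm] using this
  let e := q.quotKerEquivOfSurjective hq
  let γ : LinearMap.ker f →ₗ[S] Module.Dual S M :=
    { toFun := fun c => ((LinearMap.ker q).liftQ (dual c) (hker c c.2)) ∘ₗ e.symm.toLinearMap
      map_add' := fun c c' => by
        refine LinearMap.ext fun x => ?_
        obtain ⟨y, rfl⟩ := e.surjective x
        obtain ⟨z, rfl⟩ := Submodule.Quotient.mk_surjective _ y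
        simp [map_add]
      map_smul' := fun r c => by
        refine LinearMap.ext fun x => ?_
        obtain ⟨y, rfl⟩ := e.surjective x
        obtain ⟨z, rfl⟩ := Submodule.Quotient.mk_surjective _ y
        simp [map_smul] }
  have hγ : ∀ (c : LinearMap.ker f) z, γ c (q z) = dual c z := by
    intro c z
    show (LinearMap.ker q).liftQ (dual c) (hker c c.2) (e.symm (q z)) = _
    rw [show e.symm (q z) = Submodule.Quotient.mk z from e.symm_apply_eq.2 rfl]
    rfl
  obtain ⟨φ, hφ⟩ := extend_of_localized f hloc (θ ∘ₗ γ)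
  let x : Fin n → S := fun i => φ (Pi.single i 1)
  refine ⟨q x, LinearMap.ext fun μ => ?_⟩
  let c : Fin n → S := fun i => μ (q (Pi.single i 1))
  have hdual : dual c = μ ∘ₗ q := by
    refine (Pi.basisFun S (Fin n)).ext fun i => ?_
    simp [dual, c, Pi.single_apply]
  have hc : c ∈ LinearMap.ker f := by
    rw [LinearMap.mem_ker]
    funext j
    have h1 : q (k j) = 0 := by
      have : k j ∈ LinearMap.ker q := hk ▸ Submodule.subset_span ⟨j, rfl⟩
      exact this
    have h2 := LinearMap.congr_fun hdual (k j)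
    rw [LinearMap.comp_apply, h1, map_zero] at h2
    simpa [f, dual, mul_comm] using h2
  have hγc : γ ⟨c, hc⟩ = μ := LinearMap.ext fun y => by
    obtain ⟨z, rfl⟩ := hq y
    rw [hγ, hdual]; rfl
  rw [Module.Dual.eval_apply, ← LinearMap.comp_apply, ← hdual]
  have h3 := hφ ⟨c, hc⟩
  rw [LinearMap.comp_apply, hγc] at h3
  rw [← h3]
  have h4 : φ c = ∑ i, c i * x i := by
    conv_lhs => rw [← (Pi.basisFun S (Fin n)).sum_repr c]
    simp [x]
  rw [h4]
  simp [dual]

end GrothLib.GorDimOne
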